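import Groth.Agent.Lib.EtSec.Criterion
import Groth.Agent.Lib.AcyN18.Secs

/-!
# The data read off from a bijective base change map on a stalk
-/

set_option autoImplicit false

universe u

open CategoryTheory CategoryTheory.Limits AlgebraicGeometry Opposite
open GrothLib.EtSite GrothLib.EtSec

set_option backward.isDefEq.respectTransparency.types false

noncomputable section

namespace GrothLib.BCLoc18

variable {X S Y T : Scheme.{u}} (g : T ⟶ S) (f : X ⟶ S)

section abstract

variable {F : EtDesc.Sh T} {P G : EtDesc.Sh X} (α : P ⟶ G)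
  (secs : ∀ U : X.Etale, EtDesc.sect G U → Secs (pullback.snd (U.hom ≫ f) g) F)
  (u : ∀ W : S.Etale, Secs (pullback.snd W.hom g) F → EtDesc.sect P ((EtCoh.bc f).obj W))
  {Ω : Type u} [Field Ω] [IsSepClosed Ω] {ξ : Spec (CommRingCat.of Ω) ⟶ X}

theorem keyData_of (hb : Function.Bijective ((stalkSh ξ).map α))
    (hbij : ∀ U, Function.Bijective (secs U))
    (hnat : ∀ {U U' : X.Etale} (r : U' ⟶ U) (σ : EtDesc.sect G U), secs U' (G.obj.map r.op σ) =
      resT g r.left ((Category.assoc _ _ _).symm.trans (congrArg (· ≫ f) (hom_left r))) (secs U σ))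
    (hP : ∀ x : (stalkSh ξ).obj P, ∃ (W : S.Etale) (l : Spec (CommRingCat.of Ω) ⟶ W.left) (hl : l ≫ W.hom = ξ ≫ f)
      (s : Secs (pullback.snd W.hom g) F), gSh P (pullback.lift l ξ hl) (pullback.lift_snd _ _ _) (u W s) = x)
    (hPinv : ∀ (W : S.Etale) (l : Spec (CommRingCat.of Ω) ⟶ W.left) (hl : l ≫ W.hom = ξ ≫ f)
      (s s' : Secs (pullback.snd W.hom g) F),
      gSh P (pullback.lift l ξ hl) (pullback.lift_snd _ _ _) (u W s) =
        gSh P (pullback.lift l ξ hl) (pullback.lift_snd _ _ _) (u W s') →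
      ∃ (W' : S.Etale) (r : W' ⟶ W) (l' : Spec (CommRingCat.of Ω) ⟶ W'.left),
        l' ≫ W'.hom = ξ ≫ f ∧ l' ≫ r.left = l ∧
          resT g r.left (MorphismProperty.Over.w r) s = resT g r.left (MorphismProperty.Over.w r) s')
    (hα : ∀ (W : S.Etale) (s : Secs (pullback.snd W.hom g) F),
      secs _ (α.hom.app (op ((EtCoh.bc f).obj W)) (u W s)) = resT g (pullback.fst W.hom f) (bc_cond f W) s) :
    KeyData g f F ξ := by
  have himg : ∀ (W : S.Etale) (l : Spec (CommRingCat.of Ω) ⟶ W.left) (hl : l ≫ W.hom = ξ ≫ f)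
      (s : Secs (pullback.snd W.hom g) F),
      (stalkSh ξ).map α (gSh P (pullback.lift l ξ hl) (pullback.lift_snd _ _ _) (u W s)) =
        gSh G (pullback.lift l ξ hl) (pullback.lift_snd _ _ _) (α.hom.app (op ((EtCoh.bc f).obj W)) (u W s)) :=
    fun W l hl s => (Scheme.pointSmallEtale ξ).toPresheafFiber_naturality_apply α.hom _ _ _
  constructor
  · intro W l hl s s' U q hq m m' hm hm' hqm hqm' h
    refine hPinv W l hl s s' (hb.1 ?_)
    rw [himg, himg]
    let r : U ⟶ (EtCoh.bc f).obj W := MorphismProperty.Over.homMk (pullback.lift m U.hom hm) (pullback.lift_snd _ _ _)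
    let r' : U ⟶ (EtCoh.bc f).obj W :=
      MorphismProperty.Over.homMk (pullback.lift m' U.hom hm') (pullback.lift_snd _ _ _)
    have hr : q ≫ r.left = pullback.lift l ξ hl := pullback.hom_ext
      ((Category.assoc _ _ _).trans ((congrArg (q ≫ ·) (pullback.lift_fst _ _ _)).trans
        (hqm.trans (pullback.lift_fst _ _ _).symm)))
      ((Category.assoc _ _ _).trans ((congrArg (q ≫ ·) (pullback.lift_snd _ _ _)).trans
        (hq.trans (pullback.lift_snd _ _ _).symm)))
    have hr' : q ≫ r'.left = pullback.lift l ξ hl := pullback.hom_ext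
      ((Category.assoc _ _ _).trans ((congrArg (q ≫ ·) (pullback.lift_fst _ _ _)).trans
        (hqm'.trans (pullback.lift_fst _ _ _).symm)))
      ((Category.assoc _ _ _).trans ((congrArg (q ≫ ·) (pullback.lift_snd _ _ _)).trans
        (hq.trans (pullback.lift_snd _ _ _).symm)))
    have h2 : G.obj.map r.op (α.hom.app (op ((EtCoh.bc f).obj W)) (u W s)) =
        G.obj.map r'.op (α.hom.app (op ((EtCoh.bc f).obj W)) (u W s')) := (hbij U).1 (by
      refine (hnat r _).trans ((congrArg (resT g r.left _) (hα W s)).trans ((resT_resT g _ _ _ _ s).trans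
        ((resT_congr g (show r.left ≫ pullback.fst W.hom f = m from pullback.lift_fst _ _ _) _ hm s).trans ?_)))
      refine h.trans ((resT_congr g (show m' = r'.left ≫ pullback.fst W.hom f from (pullback.lift_fst _ _ _).symm) hm' ((Category.assoc _ _ _).trans ((congrArg (r'.left ≫ ·) (bc_cond f W)).trans ((Category.assoc _ _ _).symm.trans (congrArg (· ≫ f) (hom_left r'))))) s').trans ?_)
      exact (resT_resT g _ _ _ _ s').symm.trans ((congrArg (resT g r'.left _) (hα W s')).symm.trans (hnat r' _).symm))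
    have e₁ := gSh_map r q hq ((congrArg (fun j : Spec (CommRingCat.of Ω) ⟶ ((EtCoh.bc f).obj W).left =>
        j ≫ ((EtCoh.bc f).obj W).hom) hr).trans (pullback.lift_snd _ _ _)) (α.hom.app (op ((EtCoh.bc f).obj W)) (u W s))
    have e₂ := gSh_map r' q hq ((congrArg (fun j : Spec (CommRingCat.of Ω) ⟶ ((EtCoh.bc f).obj W).left =>
        j ≫ ((EtCoh.bc f).obj W).hom) hr').trans (pullback.lift_snd _ _ _)) (α.hom.app (op ((EtCoh.bc f).obj W)) (u W s'))
    refine (gSh_congr hr.symm _ _ _).trans (e₁.symm.trans ((congrArg (gSh G q hq) h2).trans (e₂.trans ?_)))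
    exact gSh_congr hr' _ _ _
  · intro U q hq σ
    obtain ⟨σ', rfl⟩ := (hbij U).2 σ
    obtain ⟨x, hx⟩ := hb.2 (gSh G q hq σ')
    obtain ⟨W, l, hl, s, rfl⟩ := hP x
    obtain ⟨U', r₁, r₂, q', hq', h₁, h₂, he⟩ := gSh_eq ((himg W l hl s).symm.trans hx)
    have hm : (r₁.left ≫ pullback.fst W.hom f) ≫ W.hom = U'.hom ≫ f :=
      (Category.assoc _ _ _).trans ((congrArg (r₁.left ≫ ·) (bc_cond f W)).trans
        ((Category.assoc _ _ _).symm.trans (congrArg (· ≫ f) (hom_left r₁))))
    refine ⟨W, l, hl, s, U', r₂, r₁.left ≫ pullback.fst W.hom f, hm, q', hq', h₂, ?_, ?_⟩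
    · exact (Category.assoc _ _ _).symm.trans ((congrArg (· ≫ pullback.fst W.hom f) h₁).trans (pullback.lift_fst _ _ _))
    · refine (hnat r₂ σ').symm.trans ((congrArg (secs U') he.symm).trans ((hnat r₁ _).trans ?_))
      exact (congrArg (resT g r₁.left _) (hα W s)).trans (resT_resT g _ _ _ _ s)

end abstract

variable (h : Y ⟶ X) (e : Y ⟶ T) (hsq : IsPullback e h g f)
  {Ω : Type u} [Field Ω] [IsSepClosed Ω] {ξ : Spec (CommRingCat.of Ω) ⟶ X}

/-- The data follows from bijectivity on the stalk. -/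
theorem keyData_of_bijective (F : EtDesc.Sh T)
    (hb : Function.Bijective ((stalkSh ξ).map (EtBC.baseChange0Sh g f h e hsq.w F))) : KeyData g f F ξ := by
  let inv₀ : ∀ W : S.Etale, Secs (pullback.snd W.hom g) F → EtDesc.sect F ((EtCoh.bc g).obj W) :=
    fun W s => ((secOf_bijective F ((EtCoh.bc g).obj W)).2 s).choose
  have hinv : ∀ W s, secOf F (inv₀ W s) = s := fun W s =>
    ((secOf_bijective F ((EtCoh.bc g).obj W)).2 s).choose_spec
  have hfl : ∀ (W : S.Etale) (l : Spec (CommRingCat.of Ω) ⟶ W.left) (hl : l ≫ W.hom = ξ ≫ f),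
      (fiberBcIso ξ f).inv.app W (fib (ξ ≫ f) l hl) =
        fib ξ (pullback.lift l ξ hl) (pullback.lift_snd _ _ _) := fun W l hl =>
    Over.OverMorphism.ext (pullback.hom_ext ((pullback.lift_fst _ _ _).trans (pullback.lift_fst _ _ _).symm)
      ((pullback.lift_snd _ _ _).trans (pullback.lift_snd _ _ _).symm))
  have hgerm : ∀ (W : S.Etale) (l : Spec (CommRingCat.of Ω) ⟶ W.left) (hl : l ≫ W.hom = ξ ≫ f)
      (t : EtDesc.sect ((EtDesc.pushSh g).obj F) W),
      gSh ((EtDesc.pullSh f).obj ((EtDesc.pushSh g).obj F)) (pullback.lift l ξ hl) (pullback.lift_snd _ _ _)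
        (((EtDesc.adjSh f).unit.app ((EtDesc.pushSh g).obj F)).hom.app (op W) t) =
        (pullStalkShIso ξ f).inv.app _ (gSh ((EtDesc.pushSh g).obj F) l hl t) := fun W l hl t => by
    have := germ_unitSh f ξ ((EtDesc.pushSh g).obj F) (fib (ξ ≫ f) l hl) t
    rw [hfl W l hl] at this
    exact this
  refine keyData_of g f (F := F) (EtBC.baseChange0Sh g f h e hsq.w F)
    (fun U σ => secsU g f h e hsq U (toSecs e F σ))
    (fun W s => ((EtDesc.adjSh f).unit.app ((EtDesc.pushSh g).obj F)).hom.app (op W) (inv₀ W s))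
    hb (fun U => ?_) (fun r σ => ?_) (fun x => ?_) (fun W l hl s s' hss => ?_) (fun W s => ?_)
  · exact (AcyN18.res_bijective_of_isIso (ψ g f h e hsq U) (ψ_snd g f h e hsq U)).comp (toSecs_bijective e F _)
  · exact (congrArg (secsU g f h e hsq _) (toSecs_map e F ((EtCoh.bc h).map r) σ)).trans
      (secsU_res g f h e hsq r _ _)
  · obtain ⟨W, l, hl, t, ht⟩ := exists_gSh ((pullStalkShIso ξ f).hom.app ((EtDesc.pushSh g).obj F) x)
    refine ⟨W, l, hl, secOf F t, ?_⟩
    rw [show inv₀ W (secOf F t) = t from secOf_injective F _ (hinv W _), hgerm, ht]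
    exact pullStalkSh_inv_hom f ξ _ x
  · rw [hgerm, hgerm] at hss
    replace hss := (ConcreteCategory.bijective_of_isIso ((pullStalkShIso ξ f).inv.app
      ((EtDesc.pushSh g).obj F))).injective hss
    obtain ⟨W', r, w, hw, he⟩ := ((Scheme.pointSmallEtale (ξ ≫ f)).toPresheafFiber_eq_iff'
      (P := ((EtDesc.pushSh g).obj F).obj) W (fib (ξ ≫ f) l hl) _ _).1 hss
    refine ⟨W', r, w.left, Over.w w, congrArg CommaMorphism.left hw, ?_⟩
    have hmap : ∀ s₀ : Secs (pullback.snd W.hom g) F,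
        resT g r.left (MorphismProperty.Over.w r) s₀ =
          secOf F (((EtDesc.pushSh g).obj F).obj.map r.op (inv₀ W s₀)) := fun s₀ => by
      refine Eq.trans ?_ (secOf_map F ((EtCoh.bc g).map r) (inv₀ W s₀)).symm
      rw [hinv]
      refine Secs.res_congr (pullback.hom_ext ?_ ?_) _ _ s₀
      · exact (bmap_fst g _ _).trans (EtCoh.isPullback_bc_map g r).w.symm
      · exact (bmap_snd g _ _).trans (hom_left ((EtCoh.bc g).map r)).symm
    exact (hmap s).trans ((congrArg (secOf F) he).trans (hmap s').symm)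
  · refine (congrArg (fun y => secsU g f h e hsq _ (toSecs e F y))
      (baseChange0Sh_app_unit g f h e hsq.w F W (inv₀ W s))).trans ?_
    refine (congrArg (secsU g f h e hsq _) ((toSecs_map e F _ _).trans
      (congrArg (Secs.res _ _) ((toSecs_unit e F _).trans ((ofSect_eq F _ _ _).trans (congrArg (Secs.res _ _) (hinv W s))))))).trans ?_
    refine (congrArg (fun t => Secs.res (ψ g f h e hsq _) _ t) (Secs.res_comp _ _ _ _ s)).trans ?_
    exact (Secs.res_comp _ _ _ _ s).trans (Secs.res_congr (ψ_bcθ g f h e hsq W) _ _ s)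

end GrothLib.BCLoc18
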