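import Groth.Agent.Lib.BCLoc18.Converse

/-!
# The data at a geometric point is etale local
-/

set_option autoImplicit false

universe u

open CategoryTheory CategoryTheory.Limits AlgebraicGeometry Opposite
open GrothLib.EtSite GrothLib.EtSec

set_option backward.isDefEq.respectTransparency.types false

noncomputable section

namespace GrothLib.BCLoc18

variable {S T T' V : Scheme.{u}} (g : T ⟶ S) (v : V ⟶ S) (gi : T' ⟶ V) (ti : T' ⟶ T)
  (cT : IsPullback ti gi g v) {F : EtDesc.Sh T}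

section tr

variable {Z : Scheme.{u}} {z : Z ⟶ V} {z₀ : Z ⟶ S} (hz : z ≫ v = z₀)

/-- The comparison `Z ×_S T ⟶ Z ×_V T'`. -/
def φ : pullback z₀ g ⟶ pullback z gi :=
  pullback.lift (pullback.fst _ _) (cT.lift (pullback.snd _ _) (pullback.fst _ _ ≫ z)
    (by rw [Category.assoc, hz, pullback.condition])) (cT.lift_snd _ _ _).symm

theorem φ_snd : φ g v gi ti cT hz ≫ pullback.snd z gi ≫ ti = pullback.snd z₀ g :=
  (pullback.lift_snd_assoc _ _ _ _).trans (cT.lift_fst _ _ _)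

theorem φ_fst : φ g v gi ti cT hz ≫ pullback.fst z gi = pullback.fst z₀ g :=
  pullback.lift_fst _ _ _

instance isIso_φ : IsIso (φ g v gi ti cT hz) := by
  refine ⟨pullback.lift (pullback.fst z gi) (pullback.snd z gi ≫ ti) ?_, ?_, ?_⟩
  · rw [← hz, pullback.condition_assoc, Category.assoc, cT.w]
  · apply pullback.hom_ext
    · rw [Category.assoc, pullback.lift_fst, Category.id_comp]; exact pullback.lift_fst _ _ _
    · rw [Category.assoc, pullback.lift_snd, Category.id_comp]; exact φ_snd g v gi ti cT hz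
  · apply pullback.hom_ext
    · rw [Category.assoc, φ, pullback.lift_fst, pullback.lift_fst, Category.id_comp]
    · apply cT.hom_ext
      · rw [Category.assoc, Category.assoc, φ_snd, pullback.lift_snd, Category.id_comp]
      · rw [Category.assoc, Category.assoc, φ, pullback.lift_snd_assoc, cT.lift_snd, pullback.lift_fst_assoc,
          Category.id_comp, pullback.condition]

/-- Sections over `Z ×_V T'` as sections over `Z ×_S T`. -/
def tr (σ : Secs (pullback.snd z gi) ((EtDesc.pullSh ti).obj F)) : Secs (pullback.snd z₀ g) F :=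
  (secsPull ti F (pullback.snd z gi) σ).res (φ g v gi ti cT hz) (φ_snd g v gi ti cT hz)

theorem tr_bijective : Function.Bijective (tr g v gi ti cT hz (F := F)) :=
  (AcyN18.res_bijective_of_isIso (φ g v gi ti cT hz) (φ_snd g v gi ti cT hz)).comp
    (secsPull_bijective ti F (pullback.snd z gi))

end tr

theorem tr_resT {Z Z' : Scheme.{u}} {z : Z ⟶ V} {z₀ : Z ⟶ S} (hz : z ≫ v = z₀) {z' : Z' ⟶ V} {z₀' : Z' ⟶ S}
    (hz' : z' ≫ v = z₀') (m : Z ⟶ Z') (e : m ≫ z' = z)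
    (σ : Secs (pullback.snd z' gi) ((EtDesc.pullSh ti).obj F)) :
    tr g v gi ti cT hz (resT gi m e σ) =
      resT g m (by rw [← hz', ← hz, ← Category.assoc, e]) (tr g v gi ti cT hz' σ) := by
  unfold tr resT
  rw [secsPull_res, Secs.res_comp, Secs.res_comp]
  refine Secs.res_congr ?_ _ _ _
  apply pullback.hom_ext
  · rw [Category.assoc, Category.assoc, bmap_fst, φ_fst, ← Category.assoc, φ_fst, bmap_fst]
  · apply cT.hom_ext
    · rw [Category.assoc, Category.assoc, Category.assoc, Category.assoc, bmap_snd_assoc, φ_snd, φ_snd, bmap_snd]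
    · rw [Category.assoc, Category.assoc, Category.assoc, Category.assoc, bmap_snd_assoc, ← pullback.condition,
        ← Category.assoc, φ_fst, ← pullback.condition, reassoc_of% (φ_fst g v gi ti cT hz'), bmap_fst_assoc, e]

variable {X U : Scheme.{u}} (f : X ⟶ S) (u : U ⟶ X) [Etale u] [Etale v] (a : U ⟶ V) (ha : a ≫ v = u ≫ f)
  {Ω : Type u} [Field Ω] [IsSepClosed Ω] (ξi : Spec (CommRingCat.of Ω) ⟶ U)

include cT ha in
theorem inj_aux (d : KeyData gi a ((EtDesc.pullSh ti).obj F) ξi) {Wl Ul : Scheme.{u}} (wh : Wl ⟶ S) [Etale wh]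
    (uh : Ul ⟶ X) [Etale uh] (l : Spec (CommRingCat.of Ω) ⟶ Wl) (hl : l ≫ wh = (ξi ≫ u) ≫ f)
    (s s' : Secs (pullback.snd wh g) F) (q : Spec (CommRingCat.of Ω) ⟶ Ul) (hq : q ≫ uh = ξi ≫ u)
    (m m' : Ul ⟶ Wl) (hm : m ≫ wh = uh ≫ f) (hm' : m' ≫ wh = uh ≫ f) (hqm : q ≫ m = l) (hqm' : q ≫ m' = l)
    (h : resT g m hm s = resT g m' hm' s') :
    ∃ (W' : V.Etale) (rl : W'.left ⟶ Wl) (l' : Spec (CommRingCat.of Ω) ⟶ W'.left)
      (_ : l' ≫ (W'.hom : W'.left ⟶ V) ≫ v = (ξi ≫ u) ≫ f) (hrl : rl ≫ wh = (W'.hom : W'.left ⟶ V) ≫ v),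
        l' ≫ rl = l ∧ resT g rl hrl s = resT g rl hrl s' := by
  have hf₁ : (pullback.fst uh u ≫ m) ≫ wh = (pullback.snd uh u ≫ a) ≫ v := by
    rw [Category.assoc, hm, pullback.condition_assoc, Category.assoc, ha]
  have hf₁' : (pullback.fst uh u ≫ m') ≫ wh = (pullback.snd uh u ≫ a) ≫ v := by
    rw [Category.assoc, hm', pullback.condition_assoc, Category.assoc, ha]
  have hfU : pullback.fst uh u ≫ uh ≫ f = (pullback.snd uh u ≫ a) ≫ v := by
    rw [pullback.condition_assoc, Category.assoc, ha]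
  let m₁ : pullback uh u ⟶ pullback wh v := pullback.lift _ _ hf₁
  let m₁' : pullback uh u ⟶ pullback wh v := pullback.lift _ _ hf₁'
  let l₁ : Spec (CommRingCat.of Ω) ⟶ pullback wh v :=
    pullback.lift l (ξi ≫ a) (by rw [hl, Category.assoc, Category.assoc, ha])
  let q₁ : Spec (CommRingCat.of Ω) ⟶ pullback uh u := pullback.lift q ξi hq
  obtain ⟨s₁, hs₁⟩ := (tr_bijective g v gi ti cT (z := pullback.snd wh v) rfl (F := F)).2
    (resT g (pullback.fst wh v) pullback.condition s)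
  obtain ⟨s₁', hs₁'⟩ := (tr_bijective g v gi ti cT (z := pullback.snd wh v) rfl (F := F)).2
    (resT g (pullback.fst wh v) pullback.condition s')
  have h₁ : resT gi m₁ (pullback.lift_snd _ _ hf₁) s₁ = resT gi m₁' (pullback.lift_snd _ _ hf₁') s₁' :=
    (tr_bijective g v gi ti cT (z := pullback.snd uh u ≫ a) rfl (F := F)).1 (by
      rw [tr_resT g v gi ti cT rfl rfl, tr_resT g v gi ti cT rfl rfl, hs₁, hs₁', resT_resT, resT_resT]
      refine (resT_congr g (pullback.lift_fst _ _ hf₁) _ hf₁ s).trans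
        (Eq.trans ?_ (resT_congr g (pullback.lift_fst _ _ hf₁').symm hf₁' _ s'))
      refine (resT_resT g (pullback.fst uh u) hfU m hm s).symm.trans ?_
      rw [h]
      exact resT_resT g _ _ _ _ _)
  have hqm₁ : q₁ ≫ m₁ = l₁ := by
    apply pullback.hom_ext
    · refine (Category.assoc _ _ _).trans ((congrArg (q₁ ≫ ·) (pullback.lift_fst _ _ hf₁)).trans ?_)
      exact (pullback.lift_fst_assoc _ _ _ _).trans (hqm.trans (pullback.lift_fst _ _ _).symm)
    · refine (Category.assoc _ _ _).trans ((congrArg (q₁ ≫ ·) (pullback.lift_snd _ _ hf₁)).trans ?_)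
      exact (pullback.lift_snd_assoc _ _ _ _).trans (pullback.lift_snd _ _ _).symm
  have hqm₁' : q₁ ≫ m₁' = l₁ := by
    apply pullback.hom_ext
    · refine (Category.assoc _ _ _).trans ((congrArg (q₁ ≫ ·) (pullback.lift_fst _ _ hf₁')).trans ?_)
      exact (pullback.lift_fst_assoc _ _ _ _).trans (hqm'.trans (pullback.lift_fst _ _ _).symm)
    · refine (Category.assoc _ _ _).trans ((congrArg (q₁ ≫ ·) (pullback.lift_snd _ _ hf₁')).trans ?_)
      exact (pullback.lift_snd_assoc _ _ _ _).trans (pullback.lift_snd _ _ _).symm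
  obtain ⟨W'₁, r₁, l', hl'', hr, hres⟩ := d.inj (W := Scheme.Etale.mk (pullback.snd wh v)) l₁ (pullback.lift_snd _ _ _)
    s₁ s₁' (U := Scheme.Etale.mk (pullback.snd uh u)) q₁ (pullback.lift_snd _ _ _) m₁ m₁'
    (pullback.lift_snd _ _ hf₁) (pullback.lift_snd _ _ hf₁') hqm₁ hqm₁' h₁
  let wh' : W'₁.left ⟶ V := W'₁.hom
  let rl : W'₁.left ⟶ pullback wh v := r₁.left
  have hrl : rl ≫ pullback.snd wh v = wh' := hom_left r₁
  have hres' : resT gi rl hrl s₁ = resT gi rl hrl s₁' := hres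
  refine ⟨W'₁, rl ≫ pullback.fst wh v, l', ?_, ?_, ?_, ?_⟩
  · change l' ≫ wh' ≫ v = (ξi ≫ u) ≫ f
    rw [← Category.assoc, show l' ≫ wh' = ξi ≫ a from hl'', Category.assoc, ha, ← Category.assoc]
  · change (rl ≫ pullback.fst wh v) ≫ wh = wh' ≫ v
    rw [Category.assoc, pullback.condition, ← Category.assoc, hrl]
  · exact (Category.assoc _ _ _).symm.trans ((congrArg (· ≫ pullback.fst wh v) hr).trans (pullback.lift_fst _ _ _))
  · have := congrArg (tr g v gi ti cT (z := wh') rfl) hres'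
    rw [tr_resT g v gi ti cT rfl rfl, tr_resT g v gi ti cT rfl rfl, hs₁, hs₁', resT_resT, resT_resT] at this
    exact this

include cT ha in
theorem surj_aux (d : KeyData gi a ((EtDesc.pullSh ti).obj F) ξi) {Ul : Scheme.{u}} (uh : Ul ⟶ X) [Etale uh]
    (q : Spec (CommRingCat.of Ω) ⟶ Ul) (hq : q ≫ uh = ξi ≫ u) (σ : Secs (pullback.snd (uh ≫ f) g) F) :
    ∃ (W₁ : V.Etale) (U₂ : U.Etale) (l₁ : Spec (CommRingCat.of Ω) ⟶ W₁.left)
      (s₁ : Secs (pullback.snd ((W₁.hom : W₁.left ⟶ V) ≫ v) g) F) (rl : U₂.left ⟶ Ul) (m : U₂.left ⟶ W₁.left)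
      (q' : Spec (CommRingCat.of Ω) ⟶ U₂.left)
      (_ : l₁ ≫ (W₁.hom : W₁.left ⟶ V) ≫ v = (ξi ≫ u) ≫ f) (hrl : rl ≫ uh = (U₂.hom : U₂.left ⟶ U) ≫ u)
      (hm : m ≫ (W₁.hom : W₁.left ⟶ V) ≫ v = ((U₂.hom : U₂.left ⟶ U) ≫ u) ≫ f),
      q' ≫ (U₂.hom : U₂.left ⟶ U) ≫ u = ξi ≫ u ∧ q' ≫ rl = q ∧ q' ≫ m = l₁ ∧
        resT g rl ((Category.assoc _ _ _).symm.trans (congrArg (· ≫ f) hrl)) σ = resT g m hm s₁ := by
  let q₁ : Spec (CommRingCat.of Ω) ⟶ pullback uh u := pullback.lift q ξi hq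
  have hfU : pullback.fst uh u ≫ uh ≫ f = (pullback.snd uh u ≫ a) ≫ v := by
    rw [pullback.condition_assoc, Category.assoc, ha]
  obtain ⟨σ₁, hσ₁⟩ := (tr_bijective g v gi ti cT (z := pullback.snd uh u ≫ a) rfl (F := F)).2
    (resT g (pullback.fst uh u) hfU σ)
  obtain ⟨W₁, l₁, hl₁, s₁, U₂, r₂, m, hm, q', hq', hqr, hqm, he⟩ :=
    d.surj (U := Scheme.Etale.mk (pullback.snd uh u)) q₁ (pullback.lift_snd _ _ _) σ₁
  let wh : W₁.left ⟶ V := W₁.hom
  let uh₂ : U₂.left ⟶ U := U₂.hom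
  let rl : U₂.left ⟶ pullback uh u := r₂.left
  have hrl : rl ≫ pullback.snd uh u = uh₂ := hom_left r₂
  have hrl' : rl ≫ pullback.snd uh u ≫ a = uh₂ ≫ a := by rw [← Category.assoc, hrl]
  have he' : resT gi rl hrl' σ₁ = resT gi (z := uh₂ ≫ a) (z' := wh) m hm s₁ := he
  have hz₂ : (uh₂ ≫ a) ≫ v = (uh₂ ≫ u) ≫ f := by rw [Category.assoc, ha, ← Category.assoc]
  refine ⟨W₁, U₂, l₁, tr g v gi ti cT (z := wh) rfl s₁, rl ≫ pullback.fst uh u, m, q', ?_, ?_, ?_, ?_, ?_, hqm, ?_⟩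
  · change l₁ ≫ wh ≫ v = (ξi ≫ u) ≫ f
    rw [← Category.assoc, show l₁ ≫ wh = ξi ≫ a from hl₁, Category.assoc, ha, ← Category.assoc]
  · change (rl ≫ pullback.fst uh u) ≫ uh = uh₂ ≫ u
    rw [Category.assoc, pullback.condition, ← Category.assoc, hrl]
  · change m ≫ wh ≫ v = (uh₂ ≫ u) ≫ f
    rw [← Category.assoc, show m ≫ wh = uh₂ ≫ a from hm, hz₂]
  · change q' ≫ uh₂ ≫ u = ξi ≫ u
    rw [← Category.assoc, show q' ≫ uh₂ = ξi from hq']
  · exact (Category.assoc _ _ _).symm.trans ((congrArg (· ≫ pullback.fst uh u) hqr).trans (pullback.lift_fst _ _ _))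
  · have := congrArg (tr g v gi ti cT hz₂) he'
    rw [tr_resT g v gi ti cT hz₂ rfl, tr_resT g v gi ti cT hz₂ rfl, hσ₁, resT_resT] at this
    exact this

include cT ha in
/-- The data descends from an etale neighbourhood. -/
theorem keyData_local (d : KeyData gi a ((EtDesc.pullSh ti).obj F) ξi) : KeyData g f F (ξi ≫ u) := by
  constructor
  · intro W l hl s s' U' q hq m m' hm hm' hqm hqm' h
    let wh : W.left ⟶ S := W.hom
    let uh : U'.left ⟶ X := U'.hom
    haveI : Etale wh := W.prop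
    haveI : Etale uh := U'.prop
    have hl' : l ≫ wh = (ξi ≫ u) ≫ f := hl
    have hm_ : m ≫ wh = uh ≫ f := hm
    have hm_' : m' ≫ wh = uh ≫ f := hm'
    obtain ⟨W'₁, rl, l', hl'', hrl, hr, hres⟩ := inj_aux g v gi ti cT f u a ha ξi d wh uh l hl' s s' q hq m m' hm_ hm_' hqm hqm' h
    haveI : Etale W'₁.hom := W'₁.prop
    let wh' : W'₁.left ⟶ V := W'₁.hom
    haveI : Etale wh' := W'₁.prop
    let r : (Scheme.Etale.mk (wh' ≫ v)) ⟶ W := MorphismProperty.Over.homMk rl hrl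
    exact ⟨_, r, l', hl'', hr, hres⟩
  · intro U' q hq σ
    let uh : U'.left ⟶ X := U'.hom
    haveI : Etale uh := U'.prop
    obtain ⟨W₁, U₂, l₁, s₁, rl, m, q', hl₁, hrl, hm, hq', hqr, hqm, he⟩ := surj_aux g v gi ti cT f u a ha ξi d uh q hq σ
    let wh : W₁.left ⟶ V := W₁.hom
    let uh₂ : U₂.left ⟶ U := U₂.hom
    haveI : Etale wh := W₁.prop
    haveI : Etale uh₂ := U₂.prop
    let r : (Scheme.Etale.mk (uh₂ ≫ u)) ⟶ U' := MorphismProperty.Over.homMk rl hrl
    exact ⟨Scheme.Etale.mk (wh ≫ v), l₁, hl₁, s₁, Scheme.Etale.mk (uh₂ ≫ u), r, m, hm, q', hq', hqr, hqm, he⟩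

end GrothLib.BCLoc18
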